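import Cfsg.Agent.H628.Exc.InstTw
import Cfsg.Agent.H192.U4Cert
import Cfsg.Agent.H192.U5Cert
import Cfsg.Agent.H81.TorOrthRows
import Cfsg.Agent.H508.Tor.Toral
import Cfsg.Agent.H316.U6Fam
import Cfsg.Agent.H818.StrP.UThm

/-!
# The rows of the exceptional groups over fields with at least three elements (for S2120; helper628)

* `cent_G2` .. `cent_twD4` : an elementary abelian `E` of order `p ^ 2` gives `CentRoot m p`;
* `toral_G2` .. `toral_twD4` : and `Toral m p`;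
* `row_G2` .. `row_twD4` : `Row p K`.
-/

set_option autoImplicit false
set_option linter.unusedSectionVars false

namespace Cfsg.Agent.H628.Exc.Rows

open CoxeterSystem Cfsg Cfsg.Lie Cfsg.Lie.ChevalleyDatum
open Cfsg.Agent.ChevalleyStructure Cfsg.Agent.ChevalleyStructure.Elts Cfsg.Agent.ChevalleyStructure.CoxeterGeom
  Cfsg.Agent.ChevalleyStructure.CoxeterGeomTypes Cfsg.Agent.ChevalleyStructure.NPerm
open Cfsg.Agent.Tits.Roots Cfsg.Agent.Tits.Core Cfsg.Agent.Nodes Cfsg.Agent.Nodes.Reps Cfsg.Agent.Nodes.BNOf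
  Cfsg.Agent.Nodes.RGDChev Cfsg.Agent.Nodes.Bruhat
open Cfsg.Agent.KFacts.RgdField Cfsg.Agent.KFacts.RgdChevCoord Cfsg.Agent.BpExc.TorCent Cfsg.Agent.BpExc.TorChev
open Cfsg.Agent.BpExc.Tow Cfsg.Agent.BpExc.TowChev Cfsg.Agent.BpExc.Fr
  Cfsg.Agent.BpExc.LangFr Cfsg.Agent.LangThm Cfsg.Agent.BpExc
open Cfsg.Agent.H720.TwFr
open Cfsg.Agent.H628.Exc.Elem Cfsg.Agent.H628.Exc.Asm
  Cfsg.Agent.H628.Exc.FuncRow Cfsg.Agent.H628.Exc.FuncData Cfsg.Agent.H628.Exc.Inst Cfsg.Agent.H628.Exc.InstTw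
open Cfsg.Agent.H795.RowsA
open Cfsg.Agent.H469.Exc (KK locFin)
open Cfsg.Agent.H316.U6 (MData Toral CentRoot)
open Cfsg.Agent.H192.U4 (Dat)
open Cfsg.Agent.H818.StrP (Row)

universe u v

section Gen

variable {D : ChevalleyDatum} {l : ℕ} {M : CoxeterMatrix (Fin l)} {hp : IsType D l M} {r q : ℕ}
  [hr : Fact r.Prime] {K₀ : Type v} [Group K₀]

theorem dat (m : MData hp r q K₀) {g : (Fin l → ℤ) ≃+ (Fin l → ℤ)} (hg : m.g = g) :
    Dat hp r m.e m.dd m.ι m.σ g := by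
  subst hg
  exact ⟨m.inj, m.he, m.frob, m.fr, m.norm, m.pow_dd⟩

theorem dvd_of_sq (m : MData hp r q K₀) {p : ℕ} (hx : ((r ^ m.e : ℕ) : ZMod p) ^ 2 = 1) :
    p ∣ q ^ 2 - 1 := by
  have hq : 1 ≤ q := by
    rw [← m.hq]
    exact Nat.one_le_pow _ _ hr.out.pos
  rw [m.hq] at hx
  refine (ZMod.natCast_eq_zero_iff _ _).1 ?_
  rw [Nat.cast_sub (Nat.one_le_pow _ _ hq), Nat.cast_pow, hx, Nat.cast_one, sub_self]

/-- an element of order `p` of `D.group k` fixed by `σ` -/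
theorem centRoot_of (m : MData hp r q K₀) {p : ℕ} [hpp : Fact p.Prime] (hdd : ¬ p ∣ m.dd)
    {y : ↥(D.group (KK r))} (h : m.σ y = y ∧ y ^ p = 1 ∧ y ≠ 1 ∧ CT hp.inList (D.nroots - 1) y) : CentRoot m p := by
  obtain ⟨hy, hyp, hy1, hct⟩ := h
  obtain ⟨b, rfl⟩ := m.pm hpp.out hdd hy ⟨1, by rw [pow_one]; exact hyp⟩
  have hθ : D.nroots - 1 < D.nroots := Nat.sub_lt (H316.U6.nroots_pos hp.inList) one_pos
  refine ⟨b, orderOf_eq_prime (m.inj (by rw [map_pow, hyp, map_one])) (fun h0 => hy1 (by rw [h0, map_one])),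
    fun u _ hu => ?_⟩
  rcases hu with hu | hu
  · obtain ⟨t, ht⟩ := (mem_XX_vec hp hθ).1 hu
    have e : u = H666.SigFr.xs hp.inList (D.nroots - 1) t := Subtype.ext ht
    rw [e]
    exact (hct t).1.symm
  · rw [← vec_neg hp hθ] at hu
    obtain ⟨t, ht⟩ := (mem_XX_vec hp (neg_lt hp.inList hθ)).1 hu
    have e : u = H666.SigFr.xs hp.inList (D.neg (D.nroots - 1)) t := Subtype.ext ht
    rw [e]
    exact (hct t).2.symm

theorem not_dvd_of {p d : ℕ} (h5 : 5 ≤ p) (hd : d = 1 ∨ d = 2 ∨ d = 3) : ¬ p ∣ d := by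
  intro h
  have h1 := Nat.le_of_dvd (by omega) h
  omega

theorem dd_small {p a b : ℕ} (h5 : 5 ≤ p) (ha : a = 1 ∨ a = 2 ∨ a = 3) : ¬ p ∣ Nat.gcd a b := fun h =>
  not_dvd_of h5 ha (h.trans (Nat.gcd_dvd_left _ _))

theorem three_or_five {p : ℕ} (hpp : p.Prime) (hp2 : p ≠ 2) : p = 3 ∨ 5 ≤ p := by
  have h1 := hpp.two_le
  by_contra h
  push Not at h
  have h2 : p = 4 := by omega
  rw [h2] at hpp
  exact absurd hpp (by norm_num)

end Gen

section Untw

variable {r : ℕ} [hr : Fact r.Prime] {F : Type} [Field F] [Fintype F] [CharP F r] {p : ℕ} [hpp : Fact p.Prime]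

include hpp

/-! ### `G₂` -/

theorem cent_G2 {hp : IsType chevG2 2 CoxeterMatrix.G₂} (m : MData hp r (Fintype.card F) ↥(chevG2.group F))
    (hg : m.g = AddEquiv.refl _) (hp2 : p ≠ 2) (hpr : p ≠ r) {E : Subgroup ↥(chevG2.group F)}
    (hE : IsElementaryAbelian p E) (hcard : Nat.card ↥E = p ^ 2) : CentRoot m p := by
  by_cases hx : ((r ^ m.e : ℕ) : ZMod p) ^ 2 = 1
  · exact H81.TorOrth.centRoot_g2 m hg hp2 hpr (dvd_of_sq m hx)
  · exfalso
    have h5 := five_le hp2 (ne_zero_of hpr) hx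
    have h1 := two_degrees m.hq.symm (chevG2, [2, 6]) (by simp) (not_dvd_q hpr)
      (by simpa using not_dvd_12 hpp.out h5) hE hcard
    have h3 : ¬ orderOf ((r ^ m.e : ℕ) : ZMod p) ∣ 2 := fun h4 => hx (orderOf_dvd_iff_pow_eq_one.1 h4)
    generalize orderOf ((r ^ m.e : ℕ) : ZMod p) = n at h1 h3
    simp only [List.filter, h3, decide_false] at h1
    split at h1 <;> simp at h1

theorem toral_G2 {hp : IsType chevG2 2 CoxeterMatrix.G₂} (m : MData hp r (Fintype.card F) ↥(chevG2.group F))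
    (hg : m.g = AddEquiv.refl _) (hdd : m.dd = 1) (hp2 : p ≠ 2) (hpr : p ≠ r) {E : Subgroup ↥(chevG2.group F)}
    (hE : IsElementaryAbelian p E) (hcard : Nat.card ↥E = p ^ 2) : Toral m p := by
  rcases three_or_five hpp.out hp2 with rfl | h5
  · exact H192.U4.g2_three (locFin r) (dat m hg) (by rw [hdd]; decide) hpr
  · exact H508.Tor.toral_five m hpp.out h5 (fun h => absurd (congrArg ChevalleyDatum.nroots h) (by decide)) hpr hE hcard

/-! ### `F₄` -/

theorem cent_F4 {hp : IsType chevF4 4 CoxeterMatrix.F₄} (m : MData hp r (Fintype.card F) ↥(chevF4.group F))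
    (hg : m.g = AddEquiv.refl _) (hdd : m.dd = 1) (hp2 : p ≠ 2) (hpr : p ≠ r) {E : Subgroup ↥(chevF4.group F)}
    (hE : IsElementaryAbelian p E) (hcard : Nat.card ↥E = p ^ 2) : CentRoot m p := by
  by_cases hx : ((r ^ m.e : ℕ) : ZMod p) ^ 2 = 1
  · exact H81.TorOrth.centRoot_f4 m hg hp2 hpr (dvd_of_sq m hx)
  · have h5 := five_le hp2 (ne_zero_of hpr) hx
    have h1 := two_degrees m.hq.symm (chevF4, [2, 6, 8, 12]) (by simp) (not_dvd_q hpr)
      (by simpa using not_dvd_1152 hpp.out h5) hE hcard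
    have h3 : ¬ orderOf ((r ^ m.e : ℕ) : ZMod p) ∣ 2 := fun h4 => hx (orderOf_dvd_iff_pow_eq_one.1 h4)
    have hd : orderOf ((r ^ m.e : ℕ) : ZMod p) = 3 ∨ orderOf ((r ^ m.e : ℕ) : ZMod p) = 4 ∨
        orderOf ((r ^ m.e : ℕ) : ZMod p) = 6 := by
      simpa using deg_mem (c := [2, 6, 8, 12]) (N := 12) (T := [3, 4, 6]) (by decide) (by decide) h3 h1
    obtain ⟨ζ, hζ, hζ1⟩ := exists_zeta (KK r) (r := r) hpr
    obtain ⟨y, hy⟩ := func_F4 hp CoxeterMatrix.F₄.toCoxeterSystem (locFin r) m.he m.frob (hg ▸ m.fr) hζ hζ1 hd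
    exact centRoot_of m (by rw [hdd]; exact not_dvd_of h5 (Or.inl rfl)) hy

theorem toral_F4 {hp : IsType chevF4 4 CoxeterMatrix.F₄} (m : MData hp r (Fintype.card F) ↥(chevF4.group F))
    (hg : m.g = AddEquiv.refl _) (hdd : m.dd = 1) (hp2 : p ≠ 2) (hpr : p ≠ r) {E : Subgroup ↥(chevF4.group F)}
    (hE : IsElementaryAbelian p E) (hcard : Nat.card ↥E = p ^ 2) : Toral m p := by
  rcases three_or_five hpp.out hp2 with rfl | h5
  · exact H192.U4.f4_three (locFin r) (dat m hg) (by rw [hdd]; decide) hpr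
  · exact H508.Tor.toral_five m hpp.out h5 (fun h => absurd (congrArg ChevalleyDatum.nroots h) (by decide)) hpr hE hcard

/-! ### `E₆` -/

theorem cent_E6 {hp : IsType chevE6 6 CoxeterMatrix.E₆} (m : MData hp r (Fintype.card F) ↥(chevE6.group F))
    (hg : m.g = AddEquiv.refl _) (hdd : m.dd = Nat.gcd 3 (Fintype.card F - 1)) (hp2 : p ≠ 2) (hpr : p ≠ r)
    {E : Subgroup ↥(chevE6.group F)}
    (hE : IsElementaryAbelian p E) (hcard : Nat.card ↥E = p ^ 2) : CentRoot m p := by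
  by_cases hx : ((r ^ m.e : ℕ) : ZMod p) ^ 2 = 1
  · exact H81.TorOrth.centRoot_e6 m hg hp2 hpr (dvd_of_sq m hx)
  · have h5 := five_le hp2 (ne_zero_of hpr) hx
    have hd : orderOf ((r ^ m.e : ℕ) : ZMod p) = 3 ∨ orderOf ((r ^ m.e : ℕ) : ZMod p) = 4 ∨
        orderOf ((r ^ m.e : ℕ) : ZMod p) = 6 := by
      by_cases hp5 : p = 5
      · subst hp5
        exact Or.inr (Or.inl (ord_four (ne_zero_of hpr) hx))
      · have h1 := two_degrees m.hq.symm (chevE6, [2, 5, 6, 8, 9, 12]) (by simp) (not_dvd_q hpr)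
          (fun h => hp5 (dvd_51840 hpp.out h5 (by simpa using h))) hE hcard
        have h3 : ¬ orderOf ((r ^ m.e : ℕ) : ZMod p) ∣ 2 := fun h4 => hx (orderOf_dvd_iff_pow_eq_one.1 h4)
        simpa using deg_mem (c := [2, 5, 6, 8, 9, 12]) (N := 12) (T := [3, 4, 6]) (by decide) (by decide) h3 h1
    obtain ⟨ζ, hζ, hζ1⟩ := exists_zeta (KK r) (r := r) hpr
    obtain ⟨y, hy⟩ := func_E6 hp CoxeterMatrix.E₆.toCoxeterSystem (locFin r) m.he m.frob (hg ▸ m.fr) hζ hζ1 hd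
    exact centRoot_of m (by rw [hdd]; exact dd_small h5 (Or.inr (Or.inr rfl))) hy

theorem toral_E6 {hp : IsType chevE6 6 CoxeterMatrix.E₆} (m : MData hp r (Fintype.card F) ↥(chevE6.group F))
    (hg : m.g = AddEquiv.refl _) (hdd : m.dd = Nat.gcd 3 (Fintype.card F - 1)) (hp2 : p ≠ 2) (hpr : p ≠ r)
    {E : Subgroup ↥(chevE6.group F)}
    (hE : IsElementaryAbelian p E) (hcard : Nat.card ↥E = p ^ 2) : Toral m p := by
  rcases three_or_five hpp.out hp2 with rfl | h5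
  · exact H192.U4.e6_three (locFin r) (dat m hg) (by rw [hdd, m.hq]) hpr
  · exact H508.Tor.toral_five m hpp.out h5 (fun h => absurd (congrArg ChevalleyDatum.nroots h) (by decide)) hpr hE hcard

/-! ### `E₇` -/

theorem cent_E7 {hp : IsType chevE7 7 CoxeterMatrix.E₇} (m : MData hp r (Fintype.card F) ↥(chevE7.group F))
    (hg : m.g = AddEquiv.refl _) (hdd : m.dd = Nat.gcd 2 (Fintype.card F - 1)) (hp2 : p ≠ 2) (hpr : p ≠ r)
    {E : Subgroup ↥(chevE7.group F)}
    (hE : IsElementaryAbelian p E) (hcard : Nat.card ↥E = p ^ 2) : CentRoot m p := by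
  by_cases hx : ((r ^ m.e : ℕ) : ZMod p) ^ 2 = 1
  · exact H81.TorOrth.centRoot_e7 m hg hp2 hpr (dvd_of_sq m hx)
  · have h5 := five_le hp2 (ne_zero_of hpr) hx
    have hd : orderOf ((r ^ m.e : ℕ) : ZMod p) = 3 ∨ orderOf ((r ^ m.e : ℕ) : ZMod p) = 4 ∨
        orderOf ((r ^ m.e : ℕ) : ZMod p) = 6 := by
      by_cases hp5 : p = 5
      · subst hp5
        exact Or.inr (Or.inl (ord_four (ne_zero_of hpr) hx))
      · by_cases hp7 : p = 7
        · subst hp7
          rcases ord_of_dvd_six (p := 7) (pow_sub_one (ne_zero_of hpr)) hx with h | h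
          · exact Or.inl h
          · exact Or.inr (Or.inr h)
        · have h1 := two_degrees m.hq.symm (chevE7, [2, 6, 8, 10, 12, 14, 18]) (by simp) (not_dvd_q hpr)
            (fun h => (dvd_2903040 hpp.out h5 (by simpa using h)).elim hp5 hp7) hE hcard
          have h3 : ¬ orderOf ((r ^ m.e : ℕ) : ZMod p) ∣ 2 := fun h4 => hx (orderOf_dvd_iff_pow_eq_one.1 h4)
          simpa using deg_mem (c := [2, 6, 8, 10, 12, 14, 18]) (N := 18) (T := [3, 4, 6]) (by decide) (by decide)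
            h3 h1
    obtain ⟨ζ, hζ, hζ1⟩ := exists_zeta (KK r) (r := r) hpr
    obtain ⟨y, hy⟩ := func_E7 hp CoxeterMatrix.E₇.toCoxeterSystem (locFin r) m.he m.frob (hg ▸ m.fr) hζ hζ1 hd
    exact centRoot_of m (by rw [hdd]; exact dd_small h5 (Or.inr (Or.inl rfl))) hy

theorem toral_E7 {hp : IsType chevE7 7 CoxeterMatrix.E₇} (m : MData hp r (Fintype.card F) ↥(chevE7.group F))
    (hg : m.g = AddEquiv.refl _) (hdd : m.dd = Nat.gcd 2 (Fintype.card F - 1)) (hp2 : p ≠ 2) (hpr : p ≠ r)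
    {E : Subgroup ↥(chevE7.group F)}
    (hE : IsElementaryAbelian p E) (hcard : Nat.card ↥E = p ^ 2) : Toral m p := by
  rcases three_or_five hpp.out hp2 with rfl | h5
  · refine H192.U4.e7_three (locFin r) (dat m hg) ?_ hpr
    rw [hdd]
    intro h
    exact absurd (h.trans (Nat.gcd_dvd_left _ _)) (by decide)
  · exact H508.Tor.toral_five m hpp.out h5 (fun h => absurd (congrArg ChevalleyDatum.nroots h) (by decide)) hpr hE hcard

/-! ### `E₈` -/

theorem cent_E8 {hp : IsType chevE8 8 CoxeterMatrix.E₈} (m : MData hp r (Fintype.card F) ↥(chevE8.group F))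
    (hg : m.g = AddEquiv.refl _) (hdd : m.dd = 1) (hp2 : p ≠ 2) (hpr : p ≠ r)
    {E : Subgroup ↥(chevE8.group F)}
    (hE : IsElementaryAbelian p E) (hcard : Nat.card ↥E = p ^ 2) : CentRoot m p := by
  by_cases hx : ((r ^ m.e : ℕ) : ZMod p) ^ 2 = 1
  · exact H81.TorOrth.centRoot_e8 m hg hp2 hpr (dvd_of_sq m hx)
  · have h5 := five_le hp2 (ne_zero_of hpr) hx
    have hd : orderOf ((r ^ m.e : ℕ) : ZMod p) = 3 ∨ orderOf ((r ^ m.e : ℕ) : ZMod p) = 4 ∨
        orderOf ((r ^ m.e : ℕ) : ZMod p) = 5 ∨ orderOf ((r ^ m.e : ℕ) : ZMod p) = 6 ∨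
        orderOf ((r ^ m.e : ℕ) : ZMod p) = 8 ∨ orderOf ((r ^ m.e : ℕ) : ZMod p) = 10 ∨
        orderOf ((r ^ m.e : ℕ) : ZMod p) = 12 := by
      by_cases hp5 : p = 5
      · subst hp5
        exact Or.inr (Or.inl (ord_four (ne_zero_of hpr) hx))
      · by_cases hp7 : p = 7
        · subst hp7
          rcases ord_of_dvd_six (p := 7) (pow_sub_one (ne_zero_of hpr)) hx with h | h
          · exact Or.inl h
          · exact Or.inr (Or.inr (Or.inr (Or.inl h)))
        · have h1 := two_degrees m.hq.symm (chevE8, [2, 8, 12, 14, 18, 20, 24, 30]) (by simp) (not_dvd_q hpr)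
            (fun h => (dvd_696729600 hpp.out h5 (by simpa using h)).elim hp5 hp7) hE hcard
          have h3 : ¬ orderOf ((r ^ m.e : ℕ) : ZMod p) ∣ 2 := fun h4 => hx (orderOf_dvd_iff_pow_eq_one.1 h4)
          simpa using deg_mem (c := [2, 8, 12, 14, 18, 20, 24, 30]) (N := 30) (T := [3, 4, 5, 6, 8, 10, 12])
            (by decide) (by decide) h3 h1
    obtain ⟨ζ, hζ, hζ1⟩ := exists_zeta (KK r) (r := r) hpr
    obtain ⟨y, hy⟩ := func_E8 hp CoxeterMatrix.E₈.toCoxeterSystem (locFin r) m.he m.frob (hg ▸ m.fr) hζ hζ1 hd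
    exact centRoot_of m (by rw [hdd]; exact not_dvd_of h5 (Or.inl rfl)) hy

theorem toral_E8 {hp : IsType chevE8 8 CoxeterMatrix.E₈} (m : MData hp r (Fintype.card F) ↥(chevE8.group F))
    (hg : m.g = AddEquiv.refl _) (hdd : m.dd = 1) (hp2 : p ≠ 2) (hpr : p ≠ r)
    {E : Subgroup ↥(chevE8.group F)}
    (hE : IsElementaryAbelian p E) (hcard : Nat.card ↥E = p ^ 2) : Toral m p := by
  rcases three_or_five hpp.out hp2 with rfl | h5
  · exact H192.U4.e8_three (locFin r) (dat m hg) (by rw [hdd]; decide) hpr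
  · by_cases hp5 : p = 5
    · subst hp5
      exact H192.U4.e8_five (locFin r) (dat m hg) (by rw [hdd]; decide) hpr
    · exact H508.Tor.toral_five m hpp.out h5 (fun _ => hp5) hpr hE hcard

end Untw

section Tw

variable {r : ℕ} [hr : Fact r.Prime] {K : Type} [Field K] [Fintype K] [CharP K r] {q : ℕ} {p : ℕ} [hpp : Fact p.Prime]

include hpp

/-! ### `²E₆` -/

theorem cent_twE6 (m : MData Nodes.RGDTwE6.hp r q ↥(twistedE6 K q)) (hg : m.g = permE rho6)
    (hdd : m.dd = Nat.gcd 3 (q + 1)) (hK : Fintype.card K = q ^ 2) (hp2 : p ≠ 2) (hpr : p ≠ r)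
    {E : Subgroup ↥(twistedE6 K q)} (hE : IsElementaryAbelian p E) (hcard : Nat.card ↥E = p ^ 2) :
    CentRoot m p := by
  by_cases hx : ((r ^ m.e : ℕ) : ZMod p) ^ 2 = 1
  · exact H81.TorOrth.centRoot_twE6 m hg hp2 hpr (dvd_of_sq m hx)
  · have h5 := five_le hp2 (ne_zero_of hpr) hx
    have hx' : (q : ZMod p) ^ 2 ≠ 1 := by rw [← m.hq]; exact hx
    have hd := orders_six h5 hpr m.he m.hq.symm hK hx' hE hcard
    rw [← m.hq] at hd
    obtain ⟨ζ, hζ, hζ1⟩ := exists_zeta (KK r) (r := r) hpr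
    obtain ⟨y, hy⟩ := func_E6t hp6 CoxeterMatrix.E₆.toCoxeterSystem (locFin r) m.he m.frob perm_sr6 (hg ▸ m.fr)
      hζ hζ1 hd
    exact centRoot_of m (by rw [hdd]; exact dd_small h5 (Or.inr (Or.inr rfl))) hy

theorem toral_twE6 (m : MData Nodes.RGDTwE6.hp r q ↥(twistedE6 K q)) (hg : m.g = permE rho6)
    (hdd : m.dd = Nat.gcd 3 (q + 1)) (hp2 : p ≠ 2) (hpr : p ≠ r)
    {E : Subgroup ↥(twistedE6 K q)} (hE : IsElementaryAbelian p E) (hcard : Nat.card ↥E = p ^ 2) : Toral m p := by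
  rcases three_or_five hpp.out hp2 with rfl | h5
  · exact H192.U4.twE6_three (locFin r) (dat m hg) (by rw [hdd, m.hq]) hpr
  · exact H508.Tor.toral_five m hpp.out h5 (fun h => absurd (congrArg ChevalleyDatum.nroots h) (by decide)) hpr
      hE hcard

/-! ### `³D₄` -/

theorem ord_two {x : ZMod p} (hx : x ^ 2 = 1) : orderOf x = 1 ∨ orderOf x = 2 :=
  (Nat.dvd_prime Nat.prime_two).1 (orderOf_dvd_of_pow_eq_one hx)

theorem cent_twD4 (m : MData Nodes.RGDTwD4.hp r q ↥(twistedD4 K q)) (hg : m.g = permE rho4)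
    (hdd : m.dd = 1) (hK : Fintype.card K = q ^ 3) (hp2 : p ≠ 2) (hpr : p ≠ r)
    {E : Subgroup ↥(twistedD4 K q)} (hE : IsElementaryAbelian p E) (hcard : Nat.card ↥E = p ^ 2) :
    CentRoot m p := by
  have ho : orderOf ((r ^ m.e : ℕ) : ZMod p) = 1 ∨ orderOf ((r ^ m.e : ℕ) : ZMod p) = 2 ∨
      orderOf ((r ^ m.e : ℕ) : ZMod p) = 3 ∨ orderOf ((r ^ m.e : ℕ) : ZMod p) = 6 := by
    by_cases hx : ((r ^ m.e : ℕ) : ZMod p) ^ 2 = 1
    · rcases ord_two hx with h | h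
      · exact Or.inl h
      · exact Or.inr (Or.inl h)
    · have h5 := five_le hp2 (ne_zero_of hpr) hx
      have hx' : (q : ZMod p) ^ 2 ≠ 1 := by rw [← m.hq]; exact hx
      have h6 := orders_four h5 hpr m.he m.hq.symm hK hx' hE hcard
      rw [← m.hq] at h6
      exact Or.inr (Or.inr (ord_of_dvd_six (orderOf_dvd_of_pow_eq_one h6) hx))
  obtain ⟨x, hx, hc⟩ := H192.U5.cent_twD4 (locFin r) (dat m hg)
    (by rw [hdd]; exact hpp.out.not_dvd_one) hpr ho
  exact ⟨x, hx, fun u _ hu => hc u hu⟩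

theorem toral_twD4 (m : MData Nodes.RGDTwD4.hp r q ↥(twistedD4 K q)) (hg : m.g = permE rho4)
    (hdd : m.dd = 1) (hp2 : p ≠ 2) (hpr : p ≠ r)
    {E : Subgroup ↥(twistedD4 K q)} (hE : IsElementaryAbelian p E) (hcard : Nat.card ↥E = p ^ 2) : Toral m p := by
  rcases three_or_five hpp.out hp2 with rfl | h5
  · exact H192.U4.twD4_three (locFin r) (dat m hg) (by rw [hdd]; decide) hpr
  · exact H508.Tor.toral_five m hpp.out h5 (fun h => absurd (congrArg ChevalleyDatum.nroots h) (by decide)) hpr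
      hE hcard

end Tw

/-! ### the rows -/

section Row

variable {r : ℕ} [hr : Fact r.Prime] {p : ℕ} [hpp : Fact p.Prime]

theorem hi {D : ChevalleyDatum} (h : D = chevG2 ∨ D = chevD4 ∨ D = chevF4 ∨ D = chevE6 ∨ D = chevE7 ∨ D = chevE8) :
    H818.StrP.UTab.HiList D := by
  simp only [H818.StrP.UTab.HiList, List.mem_cons, List.not_mem_nil, or_false]
  exact h

section Untw

variable {F : Type} [Field F] [Fintype F] [CharP F r]

/-- **`G₂(q)`, `q ≥ 4`.** -/
theorem row_G2 (hp2 : p ≠ 2) (hpr : p ≠ r) (hq : 4 ≤ Fintype.card F) [IsSimpleGroup ↥(chevG2.group F)] :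
    Row p ↥(chevG2.group F) := by
  have hp : IsType chevG2 2 CoxeterMatrix.G₂ := by simp [IsType, typeList]
  obtain ⟨m, hg, hdd⟩ := H316.U6.mdata_untw (r := r) hp
    (fun h => absurd (congrArg ChevalleyDatum.nroots h) (by decide))
    (fun h => absurd (congrArg ChevalleyDatum.nroots h) (by decide)) F
  have hdd1 : m.dd = 1 := by
    rcases hdd with h | ⟨-, h⟩ | ⟨-, h⟩
    · exact h.1
    · exact absurd (congrArg ChevalleyDatum.nroots h) (by decide)
    · exact absurd (congrArg ChevalleyDatum.nroots h) (by decide)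
  exact H316.U6.row' m hp2 (by omega) (fun _ => hq) (fun E hE hc => toral_G2 m hg hdd1 hp2 hpr hE hc)
    (fun E hE hc => cent_G2 m hg hp2 hpr hE hc) (H818.StrP.UThm.thmZ m (hi (by simp)) (by omega))

/-- **`F₄(q)`, `q ≥ 3`.** -/
theorem row_F4 (hp2 : p ≠ 2) (hpr : p ≠ r) (hq : 3 ≤ Fintype.card F) [IsSimpleGroup ↥(chevF4.group F)] :
    Row p ↥(chevF4.group F) := by
  have hp : IsType chevF4 4 CoxeterMatrix.F₄ := by simp [IsType, typeList]
  obtain ⟨m, hg, hdd⟩ := H316.U6.mdata_untw (r := r) hp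
    (fun h => absurd (congrArg ChevalleyDatum.nroots h) (by decide))
    (fun h => absurd (congrArg ChevalleyDatum.nroots h) (by decide)) F
  have hdd1 : m.dd = 1 := by
    rcases hdd with h | ⟨-, h⟩ | ⟨-, h⟩
    · exact h.1
    · exact absurd (congrArg ChevalleyDatum.nroots h) (by decide)
    · exact absurd (congrArg ChevalleyDatum.nroots h) (by decide)
  exact H316.U6.row' m hp2 hq (fun h => absurd (congrArg ChevalleyDatum.nroots h) (by decide))
    (fun E hE hc => toral_F4 m hg hdd1 hp2 hpr hE hc)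
    (fun E hE hc => cent_F4 m hg hdd1 hp2 hpr hE hc) (H818.StrP.UThm.thmZ m (hi (by simp)) hq)

/-- **`E₆(q)`, `q ≥ 3`.** -/
theorem row_E6 (hp2 : p ≠ 2) (hpr : p ≠ r) (hq : 3 ≤ Fintype.card F) [IsSimpleGroup ↥(chevE6.group F)] :
    Row p ↥(chevE6.group F) := by
  have hp : IsType chevE6 6 CoxeterMatrix.E₆ := by simp [IsType, typeList]
  obtain ⟨m, hg, hdd⟩ := H316.U6.mdata_untw (r := r) hp
    (fun h => absurd (congrArg ChevalleyDatum.nroots h) (by decide))
    (fun h => absurd (congrArg ChevalleyDatum.nroots h) (by decide)) F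
  have hdd1 : m.dd = Nat.gcd 3 (Fintype.card F - 1) := by
    rcases hdd with ⟨-, h | h | h⟩ | ⟨h, -⟩ | ⟨-, h⟩
    · exact absurd (congrArg ChevalleyDatum.nroots h) (by decide)
    · exact absurd (congrArg ChevalleyDatum.nroots h) (by decide)
    · exact absurd (congrArg ChevalleyDatum.nroots h) (by decide)
    · exact h
    · exact absurd (congrArg ChevalleyDatum.nroots h) (by decide)
  exact H316.U6.row' m hp2 hq (fun h => absurd (congrArg ChevalleyDatum.nroots h) (by decide))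
    (fun E hE hc => toral_E6 m hg hdd1 hp2 hpr hE hc)
    (fun E hE hc => cent_E6 m hg hdd1 hp2 hpr hE hc) (H818.StrP.UThm.thmZ m (hi (by simp)) hq)

/-- **`E₇(q)`, `q ≥ 3`.** -/
theorem row_E7 (hp2 : p ≠ 2) (hpr : p ≠ r) (hq : 3 ≤ Fintype.card F) [IsSimpleGroup ↥(chevE7.group F)] :
    Row p ↥(chevE7.group F) := by
  have hp : IsType chevE7 7 CoxeterMatrix.E₇ := by simp [IsType, typeList]
  obtain ⟨m, hg, hdd⟩ := H316.U6.mdata_untw (r := r) hp
    (fun h => absurd (congrArg ChevalleyDatum.nroots h) (by decide))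
    (fun h => absurd (congrArg ChevalleyDatum.nroots h) (by decide)) F
  have hdd1 : m.dd = Nat.gcd 2 (Fintype.card F - 1) := by
    rcases hdd with ⟨-, h | h | h⟩ | ⟨-, h⟩ | ⟨h, -⟩
    · exact absurd (congrArg ChevalleyDatum.nroots h) (by decide)
    · exact absurd (congrArg ChevalleyDatum.nroots h) (by decide)
    · exact absurd (congrArg ChevalleyDatum.nroots h) (by decide)
    · exact absurd (congrArg ChevalleyDatum.nroots h) (by decide)
    · exact h
  exact H316.U6.row' m hp2 hq (fun h => absurd (congrArg ChevalleyDatum.nroots h) (by decide))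
    (fun E hE hc => toral_E7 m hg hdd1 hp2 hpr hE hc)
    (fun E hE hc => cent_E7 m hg hdd1 hp2 hpr hE hc) (H818.StrP.UThm.thmZ m (hi (by simp)) hq)

/-- **`E₈(q)`, `q ≥ 3`.** -/
theorem row_E8 (hp2 : p ≠ 2) (hpr : p ≠ r) (hq : 3 ≤ Fintype.card F) [IsSimpleGroup ↥(chevE8.group F)] :
    Row p ↥(chevE8.group F) := by
  have hp : IsType chevE8 8 CoxeterMatrix.E₈ := by simp [IsType, typeList]
  obtain ⟨m, hg, hdd⟩ := H316.U6.mdata_untw (r := r) hp
    (fun h => absurd (congrArg ChevalleyDatum.nroots h) (by decide))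
    (fun h => absurd (congrArg ChevalleyDatum.nroots h) (by decide)) F
  have hdd1 : m.dd = 1 := by
    rcases hdd with h | ⟨-, h⟩ | ⟨-, h⟩
    · exact h.1
    · exact absurd (congrArg ChevalleyDatum.nroots h) (by decide)
    · exact absurd (congrArg ChevalleyDatum.nroots h) (by decide)
  exact H316.U6.row' m hp2 hq (fun h => absurd (congrArg ChevalleyDatum.nroots h) (by decide))
    (fun E hE hc => toral_E8 m hg hdd1 hp2 hpr hE hc)
    (fun E hE hc => cent_E8 m hg hdd1 hp2 hpr hE hc) (H818.StrP.UThm.thmZ m (hi (by simp)) hq)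

end Untw

section Tw

variable {K : Type} [Field K] [Fintype K] [CharP K r] {q : ℕ}

/-- **`²E₆(q)`, `q ≥ 3`.** -/
theorem row_twE6 (hp2 : p ≠ 2) (hpr : p ≠ r) (hqp : IsPrimePow q) (hK : Fintype.card K = q ^ 2) (hq : 3 ≤ q)
    [IsSimpleGroup ↥(twistedE6 K q)] : Row p ↥(twistedE6 K q) := by
  obtain ⟨m, hdd, hg⟩ := H316.U6.mdata_twE6' (r := r) hqp hK
  exact H316.U6.row' m hp2 hq (fun h => absurd (congrArg ChevalleyDatum.nroots h) (by decide))
    (fun E hE hc => toral_twE6 m hg hdd hp2 hpr hE hc)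
    (fun E hE hc => cent_twE6 m hg hdd hK hp2 hpr hE hc) (H818.StrP.UThm.thmZ m (hi (by simp)) hq)

/-- **`³D₄(q)`, `q ≥ 3`.** -/
theorem row_twD4 (hp2 : p ≠ 2) (hpr : p ≠ r) (hqp : IsPrimePow q) (hK : Fintype.card K = q ^ 3) (hq : 3 ≤ q)
    [IsSimpleGroup ↥(twistedD4 K q)] : Row p ↥(twistedD4 K q) := by
  obtain ⟨m, hdd, hg⟩ := H316.U6.mdata_twD4' (r := r) hqp hK
  exact H316.U6.row' m hp2 hq (fun h => absurd (congrArg ChevalleyDatum.nroots h) (by decide))
    (fun E hE hc => toral_twD4 m hg hdd hp2 hpr hE hc)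
    (fun E hE hc => cent_twD4 m hg hdd hK hp2 hpr hE hc) (H818.StrP.UThm.thmZ m (hi (by simp)) hq)

end Tw

end Row

end Cfsg.Agent.H628.Exc.Rows
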