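import Cfsg.Agent.H129.WData
import Cfsg.Agent.H129.TorusUntw

/-!
# Torus elements from eigenfunctionals of Weyl words (for S2120, U4/U5; helper628)

`A` the Cartan matrix, `L` a word in the simple reflections, `φ` a function on the simple roots with values in an abelian
group: `fol A L φ` is the functional of `φ` composed with the element `w` of the word (`lin_fol`).
`EigOK A L π V Φ` (decidable): `V` is a functional with values in `ℤ[x]/(x^(m+1) + Φ)` with `V (w g α) = x V(α)`,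
`g α_j = α_(π j)`.
* `exists_fixed` : for `J` a set of nodes containing `L` and stable under `g`, there is `z ∈ ⟨X_{±α_j} : j ∈ J⟩` such that
  `σ (z t z⁻¹) = z t z⁻¹` for all torus elements `t` with `χ_{w g x}(t) = χ_x(t)^q`.
* `exists_t` : the torus element with `χ_x(t) = ζ ^ ψ(x)`, `ψ : ℤ^l → ℤ/p`.
-/

set_option autoImplicit false
set_option linter.unusedSectionVars false

namespace Cfsg.Agent.H628.Exc.Func

open CoxeterSystem Cfsg Cfsg.Lie Cfsg.Lie.ChevalleyDatum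
open Cfsg.Agent.ChevalleyStructure Cfsg.Agent.ChevalleyStructure.Elts Cfsg.Agent.ChevalleyStructure.CoxeterGeom
  Cfsg.Agent.ChevalleyStructure.CoxeterGeomTypes Cfsg.Agent.ChevalleyStructure.NPerm
open Cfsg.Agent.Tits.Roots Cfsg.Agent.Tits.Core Cfsg.Agent.Nodes Cfsg.Agent.Nodes.Reps Cfsg.Agent.Nodes.BNOf
  Cfsg.Agent.Nodes.RGDChev Cfsg.Agent.Nodes.Bruhat
open Cfsg.Agent.KFacts.RgdField Cfsg.Agent.KFacts.RgdChevCoord Cfsg.Agent.BpExc.TorCent Cfsg.Agent.BpExc.TorChev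
open Cfsg.Agent.GpExc.Field Cfsg.Agent.BpExc.Tow Cfsg.Agent.BpExc.TowChev Cfsg.Agent.BpExc.Fr
  Cfsg.Agent.BpExc.LangFr Cfsg.Agent.LangThm Cfsg.Agent.BpExc Cfsg.Agent.H129.TorusChar Cfsg.Agent.H129.TorusMain
open Cfsg.Agent.H129.WData (Mat)
open Cfsg.Agent.H129.TorusUntw (nsys_of_locFin conj_fixed)

universe u

/-! ### functionals -/

section Lin

variable {l : ℕ} {N N' : Type*} [AddCommGroup N] [AddCommGroup N']

/-- `φ ∘ s_i` -/
def upd (A : Mat l) (i : Fin l) (φ : Fin l → N) : Fin l → N := fun j => φ j - A i j • φ i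

/-- `φ ∘ w`, `w` the product of the word -/
def fol (A : Mat l) : List (Fin l) → (Fin l → N) → (Fin l → N)
  | [], φ => φ
  | i :: L, φ => fol A L (upd A i φ)

theorem fol_map (A : Mat l) (f : N →+ N') (L : List (Fin l)) (φ : Fin l → N) (j : Fin l) :
    f (fol A L φ j) = fol A L (fun j => f (φ j)) j := by
  induction L generalizing φ with
  | nil => rfl
  | cons i L ih =>
    change f (fol A L (upd A i φ) j) = fol A L (upd A i fun j => f (φ j)) j
    rw [ih]
    congr 1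
    funext j
    change f (φ j - A i j • φ i) = f (φ j) - A i j • f (φ i)
    rw [map_sub, map_zsmul]

/-- the functional with the values `φ j` on the simple roots -/
def lin (φ : Fin l → N) : (Fin l → ℤ) →+ N where
  toFun x := ∑ j, x j • φ j
  map_zero' := by simp
  map_add' x y := by simp [add_smul, Finset.sum_add_distrib]

theorem lin_apply (φ : Fin l → N) (x : Fin l → ℤ) : lin φ x = ∑ j, x j • φ j := rfl

theorem lin_sr (φ : Fin l → N) (i : Fin l) : lin φ (sr i) = φ i := by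
  rw [lin_apply, Finset.sum_eq_single i]
  · rw [sr_self, one_smul]
  · intro j _ hj
    rw [sr_ne hj, zero_smul]
  · intro h
    exact absurd (Finset.mem_univ i) h

theorem map_eq_lin (f : (Fin l → ℤ) →+ N) (x : Fin l → ℤ) : f x = lin (fun j => f (sr j)) x := by
  conv_lhs => rw [IsMC.eq_sum_sr x]
  rw [map_sum, lin_apply]
  exact Finset.sum_congr rfl fun j _ => map_zsmul _ _ _

end Lin

section Rep

variable {D : ChevalleyDatum} {l : ℕ} {M : CoxeterMatrix (Fin l)} (hp : IsType D l M)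
  {W : Type*} [Group W] (cs : CoxeterSystem M W) {N : Type*} [AddCommGroup N]

theorem lin_upd {A : Mat l} (hA : ∀ i j, A i j = cartanOf D l i j) (φ : Fin l → N) (i : Fin l) (x : Fin l → ℤ) :
    lin φ (rep cs hp.isCartan (cs.simple i) x) = lin (upd A i φ) x := by
  rw [rep_simple_eq, map_sub, map_zsmul, lin_sr]
  have e : pairing (cartanOf D l) i x = ∑ n, x n * A i n := by
    unfold pairing
    exact Finset.sum_congr rfl fun n _ => by rw [hA, mul_comm]
  rw [e, lin_apply, lin_apply, Finset.sum_smul, ← Finset.sum_sub_distrib]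
  refine Finset.sum_congr rfl fun j _ => ?_
  change x j • φ j - (x j * A i j) • φ i = x j • (φ j - A i j • φ i)
  rw [smul_sub, mul_smul]

theorem lin_fol {A : Mat l} (hA : ∀ i j, A i j = cartanOf D l i j) (L : List (Fin l)) (φ : Fin l → N)
    (x : Fin l → ℤ) : lin φ (rep cs hp.isCartan (cs.wordProd L) x) = lin (fol A L φ) x := by
  induction L generalizing φ with
  | nil => rw [wordProd_nil, map_one, Module.End.one_apply]; rfl
  | cons i L ih =>
    rw [wordProd_cons, rep_mul_apply, lin_upd hp cs hA, ih]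
    rfl

/-- `φ (w g x) = q φ(x)` from the check on the simple roots -/
theorem lin_theta {A : Mat l} (hA : ∀ i j, A i j = cartanOf D l i j) (L : List (Fin l)) {π : Fin l → Fin l}
    {g : (Fin l → ℤ) ≃+ (Fin l → ℤ)} (hg : ∀ j, g (sr j) = sr (π j)) {φ : Fin l → N} (f : N →+ N)
    (h : ∀ j, fol A L φ (π j) = f (φ j)) (x : Fin l → ℤ) :
    lin φ (theta hp cs (cs.wordProd L) g x) = f (lin φ x) := by
  rw [theta_apply, lin_fol hp cs hA]
  have h1 := map_eq_lin ((lin (fol A L φ)).comp g.toAddMonoidHom) x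
  have h2 := map_eq_lin (f.comp (lin φ)) x
  have h3 : (fun j => ((lin (fol A L φ)).comp g.toAddMonoidHom) (sr j)) = fun j => (f.comp (lin φ)) (sr j) := by
    funext j
    change lin (fol A L φ) (g (sr j)) = f (lin φ (sr j))
    rw [hg, lin_sr, lin_sr, h]
  rw [h3] at h1
  exact h1.trans h2.symm

end Rep

/-! ### polynomials -/

section Poly

variable {m : ℕ} {R : Type*} [CommRing R]

/-- multiplication by `x` modulo `x ^ (m + 1) + Φ` -/
def mulx (Φ v : Fin (m + 1) → ℤ) : Fin (m + 1) → ℤ :=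
  Fin.cons (-(v (Fin.last m) * Φ 0)) (fun n : Fin m => v n.castSucc - v (Fin.last m) * Φ n.succ)

/-- evaluation -/
def ev (x : R) : (Fin (m + 1) → ℤ) →+ R where
  toFun v := ∑ n, (v n : R) * x ^ (n : ℕ)
  map_zero' := by simp
  map_add' v w := by simp [add_mul, Finset.sum_add_distrib]

theorem ev_apply (x : R) (v : Fin (m + 1) → ℤ) : ev x v = ∑ n, (v n : R) * x ^ (n : ℕ) := rfl

theorem ev_mulx {x : R} {Φ : Fin (m + 1) → ℤ} (h : x ^ (m + 1) + ev x Φ = 0) (v : Fin (m + 1) → ℤ) :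
    ev x (mulx Φ v) = x * ev x v := by
  have h1 : ev x (mulx Φ v) = -((v (Fin.last m) : R) * (Φ 0 : R)) +
      ∑ n : Fin m, ((v n.castSucc : R) - v (Fin.last m) * Φ n.succ) * x ^ ((n : ℕ) + 1) := by
    rw [ev_apply, Fin.sum_univ_succ]
    congr 1
    · rw [mulx, Fin.cons_zero, Fin.val_zero, pow_zero, mul_one]
      push_cast
      ring
    · refine Finset.sum_congr rfl fun n _ => ?_
      rw [mulx, Fin.cons_succ, Fin.val_succ]
      push_cast
      ring
  have h2 : ev x v = ∑ n : Fin m, (v n.castSucc : R) * x ^ (n : ℕ) + (v (Fin.last m) : R) * x ^ m := by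
    rw [ev_apply, Fin.sum_univ_castSucc]
    rfl
  have h3 : ev x Φ = (Φ 0 : R) + ∑ n : Fin m, (Φ n.succ : R) * x ^ ((n : ℕ) + 1) := by
    rw [ev_apply, Fin.sum_univ_succ, Fin.val_zero, pow_zero, mul_one]
    rfl
  rw [h1, h2, mul_add, Finset.mul_sum]
  have h4 : ∑ n : Fin m, ((v n.castSucc : R) - v (Fin.last m) * Φ n.succ) * x ^ ((n : ℕ) + 1) =
      ∑ n : Fin m, x * ((v n.castSucc : R) * x ^ (n : ℕ)) -
        v (Fin.last m) * ∑ n : Fin m, (Φ n.succ : R) * x ^ ((n : ℕ) + 1) := by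
    rw [Finset.mul_sum, ← Finset.sum_sub_distrib]
    refine Finset.sum_congr rfl fun n _ => by ring
  rw [h4]
  rw [h3] at h
  linear_combination (-(v (Fin.last m) : R)) * h

/-- the checks on an eigenfunctional -/
def EigOK {l : ℕ} (A : Mat l) (L : List (Fin l)) (π : Fin l → Fin l) (V : Fin l → Fin (m + 1) → ℤ)
    (Φ : Fin (m + 1) → ℤ) : Prop := ∀ j, fol A L V (π j) = mulx Φ (V j)

instance decEigOK {l : ℕ} (A : Mat l) (L : List (Fin l)) (π : Fin l → Fin l) (V : Fin l → Fin (m + 1) → ℤ)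
    (Φ : Fin (m + 1) → ℤ) : Decidable (EigOK A L π V Φ) := by
  unfold EigOK; infer_instance

/-- the values of the functional at `x` -/
theorem EigOK.eval {l : ℕ} {A : Mat l} {L : List (Fin l)} {π : Fin l → Fin l} {V : Fin l → Fin (m + 1) → ℤ}
    {Φ : Fin (m + 1) → ℤ} (h : EigOK A L π V Φ) {x : R} (hx : x ^ (m + 1) + ev x Φ = 0) (j : Fin l) :
    fol A L (fun j => ev x (V j)) (π j) = x * ev x (V j) := by
  rw [← fol_map, h j, ev_mulx hx]

end Poly

/-! ### fixed elements -/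

section Tor

variable {D : ChevalleyDatum} {l : ℕ} {M : CoxeterMatrix (Fin l)} (hp : IsType D l M) {k : Type u} [Field k]
  {W : Type*} [Group W] (cs : CoxeterSystem M W) {r e : ℕ} [Fact r.Prime] [CharP k r] {σ : MulAut ↥(D.group k)}
  {g : (Fin l → ℤ) ≃+ (Fin l → ℤ)}

/-- the roots `± α_j`, `j ∈ J` -/
def SJ {l : ℕ} (J : Set (Fin l)) : Set (Fin l → ℤ) := {a | ∃ j ∈ J, a = sr j ∨ a = -sr j}

theorem SJ_root {J : Set (Fin l)} (a : Fin l → ℤ) (ha : a ∈ SJ J) : IsRoot cs hp.isCartan a := by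
  obtain ⟨j, -, rfl | rfl⟩ := ha
  · exact isRoot_sr cs hp.isCartan j
  · exact (isRoot_sr cs hp.isCartan j).neg

theorem SJ_g {J : Set (Fin l)} {π : Fin l → Fin l} (hg : ∀ j, g (sr j) = sr (π j)) (hJ : ∀ j ∈ J, π j ∈ J)
    (a : Fin l → ℤ) (ha : a ∈ SJ J) : g a ∈ SJ J := by
  obtain ⟨j, hj, rfl | rfl⟩ := ha
  · exact ⟨π j, hJ j hj, Or.inl (hg j)⟩
  · exact ⟨π j, hJ j hj, Or.inr (by rw [map_neg, hg])⟩

theorem xG_mem_SJ {J : Set (Fin l)} {j : Fin l} (hj : j ∈ J) (t : k) :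
    (⟨xG hp.inList (D.simple j) t, xG_mem_group hp.inList _ t⟩ : ↥(D.group k)) ∈ RGD.Sup (XX D l k) (SJ J) := by
  refine RGD.le_Sup (show (sr j : Fin l → ℤ) ∈ SJ J from ⟨j, hj, Or.inl rfl⟩) ?_
  rw [← vec_simple hp j]
  exact (mem_XX_vec hp (simple_lt hp.inList (lt_rank hp j))).2 ⟨t, rfl⟩

theorem xG_neg_mem_SJ {J : Set (Fin l)} {j : Fin l} (hj : j ∈ J) (t : k) :
    (⟨xG hp.inList (D.neg (D.simple j)) t, xG_mem_group hp.inList _ t⟩ : ↥(D.group k)) ∈
      RGD.Sup (XX D l k) (SJ J) := by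
  refine RGD.le_Sup (show (-sr j : Fin l → ℤ) ∈ SJ J from ⟨j, hj, Or.inr rfl⟩) ?_
  have hlt := simple_lt hp.inList (lt_rank hp j)
  have e : -sr j = vec D l (D.neg (D.simple j)) := by rw [vec_neg hp hlt, vec_simple hp j]
  rw [e]
  exact (mem_XX_vec hp (neg_lt hp.inList hlt)).2 ⟨t, rfl⟩

theorem nc_mem_SJ {J : Set (Fin l)} {j : Fin l} (hj : j ∈ J) : nc hp k j ∈ RGD.Sup (XX D l k) (SJ J) := by
  have h1 : nc hp k j = (⟨xG hp.inList (D.simple j) 1, xG_mem_group hp.inList _ _⟩ : ↥(D.group k)) *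
      (⟨xG hp.inList (D.neg (D.simple j)) (-1⁻¹), xG_mem_group hp.inList _ _⟩ *
        ⟨xG hp.inList (D.simple j) 1, xG_mem_group hp.inList _ _⟩) := by
    apply Subtype.ext
    exact nG_def hp.inList (D.simple j) 1
  rw [h1]
  exact mul_mem (xG_mem_SJ hp hj 1) (mul_mem (xG_neg_mem_SJ hp hj _) (xG_mem_SJ hp hj 1))

include hp cs in
/-- **Fixed conjugates of torus elements.** -/
theorem exists_fixed [IsAlgClosed k] (hk : LocFin k) (he : 0 < e) (hσ : IsFrob r e σ)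
    (F : Fr cs hp.isCartan (TT D k) (XX D l k) σ g) {J : Set (Fin l)} {π : Fin l → Fin l}
    (hg : ∀ j, g (sr j) = sr (π j)) (hJ : ∀ j ∈ J, π j ∈ J) {L : List (Fin l)} (hL : ∀ i ∈ L, i ∈ J) :
    ∃ z ∈ RGD.Sup (XX D l k) (SJ J), ∀ t ∈ TT D k,
      (∀ x, cX hp t (theta hp cs (cs.wordProd L) g x) = cX hp t x ^ r ^ e) → σ (z * t * z⁻¹) = z * t * z⁻¹ := by
  let hN : NSys M (TT D k) (nc hp k) := nsys_of_locFin hp cs hk r
  have hn : ∀ L : List (Fin l), (∀ i ∈ L, i ∈ J) → ∃ n ∈ RGD.Sup (XX D l k) (SJ J), Rp cs hN (cs.wordProd L) n := by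
    intro L
    induction L with
    | nil => intro _; exact ⟨1, one_mem _, by rw [wordProd_nil]; exact rp_one⟩
    | cons i L ih =>
      intro h
      obtain ⟨n, hn, hr⟩ := ih fun j hj => h j (List.mem_cons_of_mem _ hj)
      refine ⟨nc hp k i * n, mul_mem (nc_mem_SJ hp (h i (List.mem_cons_self ..))) hn, ?_⟩
      rw [wordProd_cons]
      exact (rp_simple cs hN i).mul hr
  obtain ⟨n, hnS, hn⟩ := hn L hL
  obtain ⟨z, hz, hzn⟩ := lang_fr hp cs he hσ F (S := SJ J) (fun a ha => SJ_root hp cs a ha)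
    (fun a ha => SJ_g hg hJ a ha) hnS
  refine ⟨z, hz, fun t ht hx => ?_⟩
  have h1 := (tau_iff hp cs hk hσ F hn ht).2 hx
  exact conj_fixed hzn h1 (Subgroup.mem_zpowers t)

/-- `ζ ^ a`, `a ∈ ℤ/p` -/
theorem pow_val_add {p : ℕ} [hpp : Fact p.Prime] {ζ : k} (hζ : ζ ^ p = 1) (a b : ZMod p) :
    ζ ^ (a + b).val = ζ ^ a.val * ζ ^ b.val := by
  rw [ZMod.val_add, ← pow_add]
  conv_rhs => rw [← Nat.mod_add_div (a.val + b.val) p, pow_add, pow_mul, hζ, one_pow, mul_one]

theorem pow_val_natCast_mul {p : ℕ} [hpp : Fact p.Prime] {ζ : k} (hζ : ζ ^ p = 1) (q : ℕ) (b : ZMod p) :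
    ζ ^ ((q : ZMod p) * b).val = (ζ ^ b.val) ^ q := by
  rw [ZMod.val_mul, ZMod.val_natCast, ← pow_mul]
  have h1 : (q % p * b.val) % p = (b.val * q) % p := by
    rw [Nat.mod_mul_mod, mul_comm]
  rw [h1]
  conv_rhs => rw [← Nat.mod_add_div (b.val * q) p, pow_add, pow_mul ζ p, hζ, one_pow, mul_one]

include hp in
/-- **Torus elements of order `p`.** -/
theorem exists_t [IsAlgClosed k] {p d : ℕ} [hpp : Fact p.Prime] {B : Fin l → Fin l → ℤ} (hB : InvC D l d B)
    (hd : d ≠ 0) {ζ : k} (hζ : ζ ^ p = 1) (ψ : (Fin l → ℤ) →+ ZMod p) :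
    ∃ t ∈ TT D k, ∀ x, cX hp t x = ζ ^ (ψ x).val := by
  have hMC : IsMC (fun x : Fin l → ℤ => ζ ^ (ψ x).val) :=
    { zero := by
        rw [map_zero, ZMod.val_zero, pow_zero]
      add := fun x y => by
        rw [map_add, pow_val_add hζ] }
  exact exists_cX hp hB hd hMC fun _ => IsAlgClosed.exists_pow_nat_eq _ (Nat.pos_of_ne_zero hd)

/-- the order of `t` -/
theorem t_pow {p : ℕ} [hpp : Fact p.Prime] {ζ : k} (hζ : ζ ^ p = 1) {ψ : (Fin l → ℤ) →+ ZMod p}
    {t : ↥(D.group k)} (ht : t ∈ TT D k) (h : ∀ x, cX hp t x = ζ ^ (ψ x).val) : t ^ p = 1 := by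
  refine cX_inj hp (pow_mem ht p) (one_mem _) fun i => ?_
  rw [cX_pow hp ht, h, cX_one, ← pow_mul, mul_comm, pow_mul, hζ, one_pow]

end Tor

end Cfsg.Agent.H628.Exc.Func
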