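import Cfsg.Agent.H628.Exc.Elem

/-!
# Eigenfunctionals of Weyl words orthogonal to the highest root (generated; helper628)
-/

set_option autoImplicit false

namespace Cfsg.Agent.H628.Exc.FuncData

open Cfsg Cfsg.Lie Cfsg.Lie.ChevalleyDatum
open Cfsg.Agent.ChevalleyStructure.CoxeterGeomTypes Cfsg.Agent.Nodes.RGDChev
open Cfsg.Agent.H92.ExcSL2 (Orth4)
open Cfsg.Agent.H129.WData (Mat)
open Cfsg.Agent.H628.Exc.Func

/-- the simple roots orthogonal to `θ` -/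
def JJ (D : ChevalleyDatum) (l θ : ℕ) : Set (Fin l) := {j | Orth4 D θ (D.simple j) = true}

namespace F4

/-- the Cartan matrix -/
def Am : Mat 4 := ![![2, -1, 0, 0], ![-1, 2, -2, 0], ![0, -1, 2, -1], ![0, 0, -1, 2]]

theorem hA : ∀ i j, Am i j = cartanOf chevF4 4 i j := by decide +kernel

/-- the action of `σ` on the nodes -/
def pi : Fin 4 → Fin 4 := id

theorem hJ : ∀ j ∈ JJ chevF4 4 47, pi j ∈ JJ chevF4 4 47 := by
  unfold JJ
  simp only [Set.mem_ofPred_eq]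
  decide +kernel

/-- word, `d = 3` -/
def L3 : List (Fin 4) := [0, 1]

/-- functional, `d = 3` -/
def V3 : Fin 4 → Fin 2 → ℤ := ![![-2, -1], ![1, -1], ![0, 2], ![0, 0]]

/-- cyclotomic polynomial, `d = 3` -/
def P3 : Fin 2 → ℤ := ![1, 1]

theorem eig3 : EigOK Am L3 pi V3 P3 := by decide +kernel

theorem hL3 : ∀ i ∈ L3, i ∈ JJ chevF4 4 47 := by
  unfold JJ
  simp only [Set.mem_ofPred_eq]
  decide +kernel

theorem hV3 : ∑ j, vec chevF4 4 47 j • V3 j = 0 := by decide +kernel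

theorem pv3 : V3 1 = ![1, -1] := by decide +kernel

/-- word, `d = 4` -/
def L4 : List (Fin 4) := [1, 2]

/-- functional, `d = 4` -/
def V4 : Fin 4 → Fin 2 → ℤ := ![![1, 0], ![-1, 1], ![0, -2], ![1, 1]]

/-- cyclotomic polynomial, `d = 4` -/
def P4 : Fin 2 → ℤ := ![1, 0]

theorem eig4 : EigOK Am L4 pi V4 P4 := by decide +kernel

theorem hL4 : ∀ i ∈ L4, i ∈ JJ chevF4 4 47 := by
  unfold JJ
  simp only [Set.mem_ofPred_eq]
  decide +kernel

theorem hV4 : ∑ j, vec chevF4 4 47 j • V4 j = 0 := by decide +kernel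

theorem pv4 : V4 0 = ![1, 0] := by decide +kernel

/-- word, `d = 6` -/
def L6 : List (Fin 4) := [0, 1, 2]

/-- functional, `d = 6` -/
def V6 : Fin 4 → Fin 2 → ℤ := ![![1, 0], ![0, 1], ![-2, 0], ![2, -2]]

/-- cyclotomic polynomial, `d = 6` -/
def P6 : Fin 2 → ℤ := ![1, -1]

theorem eig6 : EigOK Am L6 pi V6 P6 := by decide +kernel

theorem hL6 : ∀ i ∈ L6, i ∈ JJ chevF4 4 47 := by
  unfold JJ
  simp only [Set.mem_ofPred_eq]
  decide +kernel

theorem hV6 : ∑ j, vec chevF4 4 47 j • V6 j = 0 := by decide +kernel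

theorem pv6 : V6 0 = ![1, 0] := by decide +kernel

end F4

namespace E6

/-- the Cartan matrix -/
def Am : Mat 6 := ![![2, 0, -1, 0, 0, 0], ![0, 2, 0, -1, 0, 0], ![-1, 0, 2, -1, 0, 0], ![0, -1, -1, 2, -1, 0], ![0, 0, 0, -1, 2, -1], ![0, 0, 0, 0, -1, 2]]

theorem hA : ∀ i j, Am i j = cartanOf chevE6 6 i j := by decide +kernel

/-- the action of `σ` on the nodes -/
def pi : Fin 6 → Fin 6 := id

theorem hJ : ∀ j ∈ JJ chevE6 6 71, pi j ∈ JJ chevE6 6 71 := by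
  unfold JJ
  simp only [Set.mem_ofPred_eq]
  decide +kernel

/-- word, `d = 3` -/
def L3 : List (Fin 6) := [0, 2]

/-- functional, `d = 3` -/
def V3 : Fin 6 → Fin 2 → ℤ := ![![1, 2], ![0, 0], ![-2, -1], ![1, 0], ![0, 0], ![0, 0]]

/-- cyclotomic polynomial, `d = 3` -/
def P3 : Fin 2 → ℤ := ![1, 1]

theorem eig3 : EigOK Am L3 pi V3 P3 := by decide +kernel

theorem hL3 : ∀ i ∈ L3, i ∈ JJ chevE6 6 71 := by
  unfold JJ
  simp only [Set.mem_ofPred_eq]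
  decide +kernel

theorem hV3 : ∑ j, vec chevE6 6 71 j • V3 j = 0 := by decide +kernel

theorem pv3 : V3 3 = ![1, 0] := by decide +kernel

/-- word, `d = 4` -/
def L4 : List (Fin 6) := [0, 2, 3]

/-- functional, `d = 4` -/
def V4 : Fin 6 → Fin 2 → ℤ := ![![1, 1], ![1, 0], ![-1, 1], ![-1, -1], ![1, 0], ![0, 0]]

/-- cyclotomic polynomial, `d = 4` -/
def P4 : Fin 2 → ℤ := ![1, 0]

theorem eig4 : EigOK Am L4 pi V4 P4 := by decide +kernel

theorem hL4 : ∀ i ∈ L4, i ∈ JJ chevE6 6 71 := by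
  unfold JJ
  simp only [Set.mem_ofPred_eq]
  decide +kernel

theorem hV4 : ∑ j, vec chevE6 6 71 j • V4 j = 0 := by decide +kernel

theorem pv4 : V4 1 = ![1, 0] := by decide +kernel

/-- word, `d = 6` -/
def L6 : List (Fin 6) := [0, 2, 3, 4, 5]

/-- functional, `d = 6` -/
def V6 : Fin 6 → Fin 2 → ℤ := ![![1, -1], ![0, -2], ![1, 0], ![0, 1], ![-1, 1], ![-1, 0]]

/-- cyclotomic polynomial, `d = 6` -/
def P6 : Fin 2 → ℤ := ![1, -1]

theorem eig6 : EigOK Am L6 pi V6 P6 := by decide +kernel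

theorem hL6 : ∀ i ∈ L6, i ∈ JJ chevE6 6 71 := by
  unfold JJ
  simp only [Set.mem_ofPred_eq]
  decide +kernel

theorem hV6 : ∑ j, vec chevE6 6 71 j • V6 j = 0 := by decide +kernel

theorem pv6 : V6 2 = ![1, 0] := by decide +kernel

end E6

namespace E7

/-- the Cartan matrix -/
def Am : Mat 7 := ![![2, 0, -1, 0, 0, 0, 0], ![0, 2, 0, -1, 0, 0, 0], ![-1, 0, 2, -1, 0, 0, 0], ![0, -1, -1, 2, -1, 0, 0], ![0, 0, 0, -1, 2, -1, 0], ![0, 0, 0, 0, -1, 2, -1], ![0, 0, 0, 0, 0, -1, 2]]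

theorem hA : ∀ i j, Am i j = cartanOf chevE7 7 i j := by decide +kernel

/-- the action of `σ` on the nodes -/
def pi : Fin 7 → Fin 7 := id

theorem hJ : ∀ j ∈ JJ chevE7 7 125, pi j ∈ JJ chevE7 7 125 := by
  unfold JJ
  simp only [Set.mem_ofPred_eq]
  decide +kernel

/-- word, `d = 3` -/
def L3 : List (Fin 7) := [1, 3]

/-- functional, `d = 3` -/
def V3 : Fin 7 → Fin 2 → ℤ := ![![0, 0], ![1, 2], ![1, 0], ![-2, -1], ![1, 0], ![0, 0], ![0, 0]]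

/-- cyclotomic polynomial, `d = 3` -/
def P3 : Fin 2 → ℤ := ![1, 1]

theorem eig3 : EigOK Am L3 pi V3 P3 := by decide +kernel

theorem hL3 : ∀ i ∈ L3, i ∈ JJ chevE7 7 125 := by
  unfold JJ
  simp only [Set.mem_ofPred_eq]
  decide +kernel

theorem hV3 : ∑ j, vec chevE7 7 125 j • V3 j = 0 := by decide +kernel

theorem pv3 : V3 2 = ![1, 0] := by decide +kernel

/-- word, `d = 4` -/
def L4 : List (Fin 7) := [1, 2, 3]

/-- functional, `d = 4` -/
def V4 : Fin 7 → Fin 2 → ℤ := ![![1, 0], ![-1, 1], ![-1, 1], ![0, -2], ![1, 1], ![0, 0], ![0, 0]]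

/-- cyclotomic polynomial, `d = 4` -/
def P4 : Fin 2 → ℤ := ![1, 0]

theorem eig4 : EigOK Am L4 pi V4 P4 := by decide +kernel

theorem hL4 : ∀ i ∈ L4, i ∈ JJ chevE7 7 125 := by
  unfold JJ
  simp only [Set.mem_ofPred_eq]
  decide +kernel

theorem hV4 : ∑ j, vec chevE7 7 125 j • V4 j = 0 := by decide +kernel

theorem pv4 : V4 0 = ![1, 0] := by decide +kernel

/-- word, `d = 6` -/
def L6 : List (Fin 7) := [1, 2, 3, 4]

/-- functional, `d = 6` -/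
def V6 : Fin 7 → Fin 2 → ℤ := ![![-1, 1], ![0, -1], ![0, -1], ![1, 0], ![0, 1], ![-1, 0], ![0, 0]]

/-- cyclotomic polynomial, `d = 6` -/
def P6 : Fin 2 → ℤ := ![1, -1]

theorem eig6 : EigOK Am L6 pi V6 P6 := by decide +kernel

theorem hL6 : ∀ i ∈ L6, i ∈ JJ chevE7 7 125 := by
  unfold JJ
  simp only [Set.mem_ofPred_eq]
  decide +kernel

theorem hV6 : ∑ j, vec chevE7 7 125 j • V6 j = 0 := by decide +kernel

theorem pv6 : V6 3 = ![1, 0] := by decide +kernel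

end E7

namespace E8

/-- the Cartan matrix -/
def Am : Mat 8 := ![![2, 0, -1, 0, 0, 0, 0, 0], ![0, 2, 0, -1, 0, 0, 0, 0], ![-1, 0, 2, -1, 0, 0, 0, 0], ![0, -1, -1, 2, -1, 0, 0, 0], ![0, 0, 0, -1, 2, -1, 0, 0], ![0, 0, 0, 0, -1, 2, -1, 0], ![0, 0, 0, 0, 0, -1, 2, -1], ![0, 0, 0, 0, 0, 0, -1, 2]]

theorem hA : ∀ i j, Am i j = cartanOf chevE8 8 i j := by decide +kernel

/-- the action of `σ` on the nodes -/
def pi : Fin 8 → Fin 8 := id

theorem hJ : ∀ j ∈ JJ chevE8 8 239, pi j ∈ JJ chevE8 8 239 := by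
  unfold JJ
  simp only [Set.mem_ofPred_eq]
  decide +kernel

/-- word, `d = 3` -/
def L3 : List (Fin 8) := [0, 2]

/-- functional, `d = 3` -/
def V3 : Fin 8 → Fin 2 → ℤ := ![![1, 2], ![0, 0], ![-2, -1], ![1, 0], ![0, 0], ![0, 0], ![0, 0], ![0, 0]]

/-- cyclotomic polynomial, `d = 3` -/
def P3 : Fin 2 → ℤ := ![1, 1]

theorem eig3 : EigOK Am L3 pi V3 P3 := by decide +kernel

theorem hL3 : ∀ i ∈ L3, i ∈ JJ chevE8 8 239 := by
  unfold JJ
  simp only [Set.mem_ofPred_eq]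
  decide +kernel

theorem hV3 : ∑ j, vec chevE8 8 239 j • V3 j = 0 := by decide +kernel

theorem pv3 : V3 3 = ![1, 0] := by decide +kernel

/-- word, `d = 4` -/
def L4 : List (Fin 8) := [0, 2, 3]

/-- functional, `d = 4` -/
def V4 : Fin 8 → Fin 2 → ℤ := ![![1, 1], ![1, 0], ![-1, 1], ![-1, -1], ![1, 0], ![0, 0], ![0, 0], ![0, 0]]

/-- cyclotomic polynomial, `d = 4` -/
def P4 : Fin 2 → ℤ := ![1, 0]

theorem eig4 : EigOK Am L4 pi V4 P4 := by decide +kernel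

theorem hL4 : ∀ i ∈ L4, i ∈ JJ chevE8 8 239 := by
  unfold JJ
  simp only [Set.mem_ofPred_eq]
  decide +kernel

theorem hV4 : ∑ j, vec chevE8 8 239 j • V4 j = 0 := by decide +kernel

theorem pv4 : V4 1 = ![1, 0] := by decide +kernel

/-- word, `d = 5` -/
def L5 : List (Fin 8) := [0, 1, 2, 3]

/-- functional, `d = 5` -/
def V5 : Fin 8 → Fin 4 → ℤ := ![![-2, 0, -1, -2], ![1, 2, 0, 2], ![2, 0, 2, 1], ![-2, -1, -1, -1], ![1, 0, 0, 0], ![0, 0, 0, 0], ![0, 0, 0, 0], ![0, 0, 0, 0]]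

/-- cyclotomic polynomial, `d = 5` -/
def P5 : Fin 4 → ℤ := ![1, 1, 1, 1]

theorem eig5 : EigOK Am L5 pi V5 P5 := by decide +kernel

theorem hL5 : ∀ i ∈ L5, i ∈ JJ chevE8 8 239 := by
  unfold JJ
  simp only [Set.mem_ofPred_eq]
  decide +kernel

theorem hV5 : ∑ j, vec chevE8 8 239 j • V5 j = 0 := by decide +kernel

theorem pv5 : V5 4 = ![1, 0, 0, 0] := by decide +kernel

/-- word, `d = 6` -/
def L6 : List (Fin 8) := [1, 2, 3, 4]

/-- functional, `d = 6` -/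
def V6 : Fin 8 → Fin 2 → ℤ := ![![-1, 1], ![0, -1], ![0, -1], ![1, 0], ![0, 1], ![-1, 0], ![0, 0], ![0, 0]]

/-- cyclotomic polynomial, `d = 6` -/
def P6 : Fin 2 → ℤ := ![1, -1]

theorem eig6 : EigOK Am L6 pi V6 P6 := by decide +kernel

theorem hL6 : ∀ i ∈ L6, i ∈ JJ chevE8 8 239 := by
  unfold JJ
  simp only [Set.mem_ofPred_eq]
  decide +kernel

theorem hV6 : ∑ j, vec chevE8 8 239 j • V6 j = 0 := by decide +kernel

theorem pv6 : V6 3 = ![1, 0] := by decide +kernel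

/-- word, `d = 8` -/
def L8 : List (Fin 8) := [0, 1, 2, 3, 4]

/-- functional, `d = 8` -/
def V8 : Fin 8 → Fin 4 → ℤ := ![![-1, 2, -1, 0], ![1, 0, 0, 1], ![0, -1, 2, -1], ![0, 0, -1, 1], ![-1, 0, 0, -1], ![1, 0, 0, 0], ![0, 0, 0, 0], ![0, 0, 0, 0]]

/-- cyclotomic polynomial, `d = 8` -/
def P8 : Fin 4 → ℤ := ![1, 0, 0, 0]

theorem eig8 : EigOK Am L8 pi V8 P8 := by decide +kernel

theorem hL8 : ∀ i ∈ L8, i ∈ JJ chevE8 8 239 := by
  unfold JJ
  simp only [Set.mem_ofPred_eq]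
  decide +kernel

theorem hV8 : ∑ j, vec chevE8 8 239 j • V8 j = 0 := by decide +kernel

theorem pv8 : V8 5 = ![1, 0, 0, 0] := by decide +kernel

/-- word, `d = 10` -/
def L10 : List (Fin 8) := [1, 2, 3, 4, 5, 6]

/-- functional, `d = 10` -/
def V10 : Fin 8 → Fin 4 → ℤ := ![![-2, 1, -1, 2], ![0, -1, 0, -1], ![0, -1, 0, -1], ![1, 0, 0, 0], ![0, 1, 0, 0], ![0, 0, 1, 0], ![0, 0, 0, 1], ![-1, 0, -1, 0]]

/-- cyclotomic polynomial, `d = 10` -/
def P10 : Fin 4 → ℤ := ![1, -1, 1, -1]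

theorem eig10 : EigOK Am L10 pi V10 P10 := by decide +kernel

theorem hL10 : ∀ i ∈ L10, i ∈ JJ chevE8 8 239 := by
  unfold JJ
  simp only [Set.mem_ofPred_eq]
  decide +kernel

theorem hV10 : ∑ j, vec chevE8 8 239 j • V10 j = 0 := by decide +kernel

theorem pv10 : V10 3 = ![1, 0, 0, 0] := by decide +kernel

/-- word, `d = 12` -/
def L12 : List (Fin 8) := [0, 1, 2, 3, 4, 5]

/-- functional, `d = 12` -/
def V12 : Fin 8 → Fin 4 → ℤ := ![![0, -1, 0, 0], ![-1, 0, 0, -1], ![0, 0, -1, 0], ![1, 0, 0, 0], ![0, 1, 0, 0], ![0, 0, 1, 0], ![-1, -1, 0, 1], ![0, 0, 0, 0]]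

/-- cyclotomic polynomial, `d = 12` -/
def P12 : Fin 4 → ℤ := ![1, 0, -1, 0]

theorem eig12 : EigOK Am L12 pi V12 P12 := by decide +kernel

theorem hL12 : ∀ i ∈ L12, i ∈ JJ chevE8 8 239 := by
  unfold JJ
  simp only [Set.mem_ofPred_eq]
  decide +kernel

theorem hV12 : ∑ j, vec chevE8 8 239 j • V12 j = 0 := by decide +kernel

theorem pv12 : V12 3 = ![1, 0, 0, 0] := by decide +kernel

end E8

namespace E6t

/-- the Cartan matrix -/
def Am : Mat 6 := ![![2, 0, -1, 0, 0, 0], ![0, 2, 0, -1, 0, 0], ![-1, 0, 2, -1, 0, 0], ![0, -1, -1, 2, -1, 0], ![0, 0, 0, -1, 2, -1], ![0, 0, 0, 0, -1, 2]]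

theorem hA : ∀ i j, Am i j = cartanOf chevE6 6 i j := by decide +kernel

/-- the action of `σ` on the nodes -/
def pi : Fin 6 → Fin 6 := ![5, 1, 4, 3, 2, 0]

theorem hJ : ∀ j ∈ JJ chevE6 6 71, pi j ∈ JJ chevE6 6 71 := by
  unfold JJ
  simp only [Set.mem_ofPred_eq]
  decide +kernel

/-- word, `d = 3` -/
def L3 : List (Fin 6) := [0, 2]

/-- functional, `d = 3` -/
def V3 : Fin 6 → Fin 2 → ℤ := ![![-2, -1], ![0, 0], ![1, 2], ![1, 0], ![-2, -1], ![1, -1]]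

/-- cyclotomic polynomial, `d = 3` -/
def P3 : Fin 2 → ℤ := ![1, 1]

theorem eig3 : EigOK Am L3 pi V3 P3 := by decide +kernel

theorem hL3 : ∀ i ∈ L3, i ∈ JJ chevE6 6 71 := by
  unfold JJ
  simp only [Set.mem_ofPred_eq]
  decide +kernel

theorem hV3 : ∑ j, vec chevE6 6 71 j • V3 j = 0 := by decide +kernel

theorem pv3 : V3 3 = ![1, 0] := by decide +kernel

/-- word, `d = 4` -/
def L4 : List (Fin 6) := [0]

/-- functional, `d = 4` -/
def V4 : Fin 6 → Fin 2 → ℤ := ![![-2, 0], ![0, 0], ![1, 0], ![0, 0], ![0, 1], ![0, -2]]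

/-- cyclotomic polynomial, `d = 4` -/
def P4 : Fin 2 → ℤ := ![1, 0]

theorem eig4 : EigOK Am L4 pi V4 P4 := by decide +kernel

theorem hL4 : ∀ i ∈ L4, i ∈ JJ chevE6 6 71 := by
  unfold JJ
  simp only [Set.mem_ofPred_eq]
  decide +kernel

theorem hV4 : ∑ j, vec chevE6 6 71 j • V4 j = 0 := by decide +kernel

theorem pv4 : V4 2 = ![1, 0] := by decide +kernel

/-- word, `d = 6` -/
def L6 : List (Fin 6) := [0, 2]

/-- functional, `d = 6` -/
def V6 : Fin 6 → Fin 2 → ℤ := ![![0, -1], ![0, 0], ![1, 0], ![-1, 0], ![0, 1], ![1, -1]]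

/-- cyclotomic polynomial, `d = 6` -/
def P6 : Fin 2 → ℤ := ![1, -1]

theorem eig6 : EigOK Am L6 pi V6 P6 := by decide +kernel

theorem hL6 : ∀ i ∈ L6, i ∈ JJ chevE6 6 71 := by
  unfold JJ
  simp only [Set.mem_ofPred_eq]
  decide +kernel

theorem hV6 : ∑ j, vec chevE6 6 71 j • V6 j = 0 := by decide +kernel

theorem pv6 : V6 2 = ![1, 0] := by decide +kernel

/-- word, `d = 10` -/
def L10 : List (Fin 6) := [0, 2, 3]

/-- functional, `d = 10` -/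
def V10 : Fin 6 → Fin 4 → ℤ := ![![-1, 1, -2, 1], ![-1, 0, 0, 1], ![1, -2, 1, -1], ![0, 1, 0, 0], ![1, 0, 0, 0], ![-1, 0, 0, -1]]

/-- cyclotomic polynomial, `d = 10` -/
def P10 : Fin 4 → ℤ := ![1, -1, 1, -1]

theorem eig10 : EigOK Am L10 pi V10 P10 := by decide +kernel

theorem hL10 : ∀ i ∈ L10, i ∈ JJ chevE6 6 71 := by
  unfold JJ
  simp only [Set.mem_ofPred_eq]
  decide +kernel

theorem hV10 : ∑ j, vec chevE6 6 71 j • V10 j = 0 := by decide +kernel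

theorem pv10 : V10 4 = ![1, 0, 0, 0] := by decide +kernel

end E6t

end Cfsg.Agent.H628.Exc.FuncData
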